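import Groth.Agent.Neron.K531.Defs
import Groth.Agent.Fga.JacAlg
import Groth.Agent.Curves.K316.P1Map

/-!
# Effective Cartier divisors on integral curves from a positive Euler characteristic

Node DV2 of the proof of S15952: an invertible module with positive Euler characteristic on a proper integral curve
over a field has a nonzero section, whose zero scheme is an effective Cartier divisor, finite over the field.
-/

set_option autoImplicit false
set_option linter.style.haveILetI false

universe u

open CategoryTheory CategoryTheory.Limits AlgebraicGeometry TopologicalSpace Opposite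
open Groth.Agent Groth.Agent.Grpsch.PicGrp Groth.Agent.Fga.RigGrp Groth.Agent.Fga.JacFactor K531.Defs

namespace K226.DivInt

/-- (DV2) -/
theorem exists_divisor_integral {F : Type u} [Field F] {D : Scheme.{u}} (f : D ⟶ Spec (CommRingCat.of F)) [IsProper f]
    [IsIntegral D] (hdim : topologicalKrullDim D = 1) {M : D.Modules} (hM : PicF.IsInvertible M)
    (h : letI : D.Over (Spec (CommRingCat.of F)) := ⟨f⟩; 0 < FGA.eulerCharLE F D M 1) :
    ∃ (I : D.IdealSheafData) (hE : BlowUp.IsEffCartierIdeal I), dcl I hE = (mk M hM)⁻¹ ∧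
      IsFinite (I.subschemeι ≫ f) := by
  letI : D.Over (Spec (CommRingCat.of F)) := ⟨f⟩
  haveI : IsProper (D ↘ Spec (CommRingCat.of F)) := ‹IsProper f›
  obtain ⟨s, hs⟩ := Fga.JacAlg.exists_section_ne_zero F D M h
  obtain ⟨I, hI⟩ := Picfga.ZeroDiv.exists_zeroIdeal hM s
  have hE := Curves.K316.P1Map.isEffCartierIdeal hM hs hI
  have hinv : ClSub.IsInverseOf M (ClSub.idealMod I) := Fga.ZeroClass.nonempty_iso hM s hI hE
  refine ⟨I, hE, ?_, ?_⟩
  · rw [Fga.ZeroClass.mk_eq_inv_dcl hM s hI hE, inv_inv]
  · exact (Groth.Agent.S1604.result F D hdim.le I hE M hM hinv 1 (Coh.structureModule D)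
      (Ega2.QCohLocal.isFinLocFreeOfRank_one_iff.2 Fdesc.LocGen.isInvertible_structureModule)).1

end K226.DivInt
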